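import Groth.Agent.S14104
import Groth.Agent.AVAmpleLib.FiniteKL
import Groth.Agent.AmpleDevLib.Pull
import Groth.Agent.AmpleDevLib.Components
import Groth.Agent.BlowPtLib.Exceptional
import Groth.Agent.NumTrivLib.Transfer
import Groth.Agent.HilbPolyLib.Twist
import Groth.Agent.S2122

/-!
# Closed sets missing an ample divisor
-/

set_option autoImplicit false
set_option backward.isDefEq.respectTransparency false
universe u
open CategoryTheory CategoryTheory.Limits AlgebraicGeometry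

noncomputable section

namespace LefDisjLib

variable {X S : Scheme.{u}} {f : X ⟶ S} [IsProper f] [IsAffine S]

theorem isFinite_of_disjoint (𝓘 : X.IdealSheafData) {L : X.Modules} (hL : ClSub.IsInverseOf L (ClSub.idealMod 𝓘))
    (hamp : CohB1.IsAmple L) {W : Scheme.{u}} (ι : W ⟶ X) [IsClosedImmersion ι] (h : ∀ w, ι w ∉ 𝓘.support) :
    IsFinite (ι ≫ f) := by
  obtain ⟨e⟩ := hL
  have hI : PicF.IsInvertible (ClSub.idealMod 𝓘) :=
    Groth.Agent.S2122.result _ _ (HilbPolyLib.swapIso _ _ ≪≫ e)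
  obtain ⟨a⟩ := BlowPtLib.nonempty_pb_ideal_trivial ι 𝓘 hI h
  obtain ⟨t⟩ := NumTrivLib.nonempty_pb_tensor ι L (ClSub.idealMod 𝓘)
  let P := (Scheme.Modules.pullback ι).obj L
  have hP : CohB1.IsAmple P := AmpleDevLib.isAmple_pb ι hamp.1 hamp
  let i : P ≅ Coh.structureModule W :=
    (HilbPolyLib.unitLeft P).symm ≪≫ HilbPolyLib.swapIso _ _ ≪≫ HilbPolyLib.congrRight P a.symm ≪≫ t ≪≫
      (Scheme.Modules.pullback ι).mapIso e ≪≫ KFlatLib.pullUnitIso ι
  exact AVAmpleLib.isFinite_of_ample_one (ι ≫ f)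
    (AmpleDevLib.isAmple_of_iso hP.1 (HilbPolyLib.isInvertible_of_iso i hP.1) i hP)

theorem isClosed_asFiber (𝓘 : X.IdealSheafData) {L : X.Modules} (hL : ClSub.IsInverseOf L (ClSub.idealMod 𝓘))
    (hamp : CohB1.IsAmple L) {Z : Set X} (hZ : IsClosed Z) (hZY : Disjoint Z (𝓘.support : Set X))
    (z : X) (hz : z ∈ Z) : IsClosed ({f.asFiber z} : Set ↥(f.fiber (f z))) := by
  let I := Scheme.IdealSheafData.vanishingIdeal ⟨Z, hZ⟩
  have hrange : Set.range I.subschemeι = Z := by
    rw [Scheme.IdealSheafData.range_subschemeι, Scheme.IdealSheafData.coe_support_vanishingIdeal]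
    rfl
  haveI := isFinite_of_disjoint (f := f) 𝓘 hL hamp I.subschemeι fun w =>
    Set.disjoint_left.1 hZY (hrange ▸ ⟨w, rfl⟩)
  obtain ⟨a, ha⟩ : z ∈ Set.range I.subschemeι := hrange ▸ hz
  refine isClosed_of_closure_subset fun q hq => ?_
  have hzq : f.asFiber z ⤳ q := specializes_iff_mem_closure.2 hq
  have h1 : z ⤳ f.fiberι (f z) q := by
    have := hzq.map (f.fiberι (f z)).continuous
    rwa [f.fiberι_asFiber] at this
  obtain ⟨b, hb⟩ : f.fiberι (f z) q ∈ Set.range I.subschemeι := hrange ▸ h1.mem_closed hZ hz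
  have hab : a ⤳ b := I.subschemeι.isEmbedding.specializes_iff.1 (by rwa [ha, hb])
  have hfb : f (I.subschemeι b) = f z := by
    rw [hb]
    exact (f.range_fiberι (f z)).le ⟨q, rfl⟩
  have hd := (I.subschemeι ≫ f).isDiscrete_preimage_singleton (f z)
  have ha' : (I.subschemeι ≫ f) a = f z := by rw [Scheme.Hom.comp_apply, ha]
  have hb' : (I.subschemeι ≫ f) b = f z := by rw [Scheme.Hom.comp_apply, hfb]
  have heq : a = b := by
    haveI := hd.to_subtype
    have h2 : (⟨a, ha'⟩ : (I.subschemeι ≫ f) ⁻¹' {f z}) ⤳ ⟨b, hb'⟩ := (subtype_specializes_iff _ _).2 hab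
    exact congrArg Subtype.val h2.eq
  refine (f.fiberι (f z)).isEmbedding.injective ?_
  rw [f.fiberι_asFiber, ← hb, ← heq, ha]

end LefDisjLib
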